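import Groth.Prelude.Def_CechOX
import Groth.Agent.Lib.DPush9.AffineAcyclic
import Groth.Agent.Lib.CohFound.RelVan
import Groth.Agent.Lib.CohFound.AffMor
import Groth.Agent.Lib.CohFound.RpushHc
import Groth.Agent.Lib.PushFin12.Basic
import Groth.Agent.Lib.SerreCl8.Main
import Groth.Agent.Lib.RFPlus.DerivedZero

/-!
# The terms of the relative Čech complex
-/

set_option autoImplicit false
set_option linter.style.haveILetI false
set_option linter.unusedSectionVars false
set_option backward.isDefEq.respectTransparency false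
set_option backward.isDefEq.respectTransparency.types false

universe u

open CategoryTheory CategoryTheory.Limits AlgebraicGeometry Opposite TopologicalSpace

namespace Groth.Agent.RelCech8

open CohFound

variable {W X S : Scheme.{u}} (j : W ⟶ X) (f : X ⟶ S) [IsAffineHom j] [IsAffineHom (j ≫ f)]
  [QuasiCompact f] [QuasiSeparated f]

/-- Modules pushed from an affine morphism with affine composite are acyclic. -/
theorem isAcyclicObj_push [HasInjectiveResolutions X.Modules] {N : W.Modules} (hN : Coh.IsQCoh N) :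
    RFPlus.IsAcyclicObj (Scheme.Modules.pushforward f) ((Scheme.Modules.pushforward j).obj N) := by
  intro i hi
  haveI := hN
  haveI : N.IsQuasicoherent := hN
  let M := (Scheme.Modules.pushforward j).obj N
  have hM : Coh.IsQCoh M := PushFin12.isQCoh_pushforward j N hN
  choose V hV hxV using fun x : S => exists_isAffineOpen_mem_and_subset (x := x) (U := ⊤) trivial
  have hz : IsZero ((Coh.RpushAb f i).obj (Coh.toAb M)) := by
    refine isZero_rpushAb_of_cover f M hM V hV (fun y => ⟨y, (hxV y).1⟩) i fun x => ?_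
    obtain ⟨e⟩ := nonempty_hc_abF_restrict (f ⁻¹ᵁ V x).ι M i ⊤
    refine @Function.Injective.subsingleton _ _ _ e.injective ?_
    rw [Scheme.Opens.ι_image_top]
    obtain ⟨e'⟩ := nonempty_hc_push_isAffineHom j N i (f ⁻¹ᵁ V x)
    obtain ⟨k, rfl⟩ : ∃ k, i = k + 1 := ⟨i - 1, by omega⟩
    exact @Equiv.subsingleton _ _ e'.toEquiv
      (subsingleton_hc_isAffineOpen N (hV x |>.preimage (j ≫ f)) k)
  obtain ⟨e₁⟩ := nonempty_abF_rpush_iso_shPre f M i
  obtain ⟨e₂⟩ := nonempty_rpush_iso_shPre (f.base : sp X ⟶ sp S) ((abF X).obj M) i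
  have h : IsZero ((abF S).obj (((Scheme.Modules.pushforward f).rightDerived i).obj M)) :=
    hz.of_iso (e₁ ≪≫ e₂.symm)
  rw [IsZero.iff_id_eq_zero] at h ⊢
  exact (abF S).map_injective (by rw [(abF S).map_id, (abF S).map_zero]; exact h)

section Prod

/-- A finite product of quasi-coherent modules is quasi-coherent. -/
theorem isQCoh_pi {κ : Type u} [Finite κ] (M : κ → X.Modules) (h : ∀ k, Coh.IsQCoh (M k)) :
    Coh.IsQCoh (∏ᶜ M) :=
  haveI : HasFiniteBiproducts X.Modules := HasFiniteBiproducts.of_hasFiniteProducts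
  haveI : HasBiproduct M := inferInstance
  M1.isQCoh_of_isIso ((biproduct.isoCoproduct M).symm ≪≫ biproduct.isoProduct M) (SerreCl8.isQCoh_sigma M h)

/-- A finite product of acyclic modules is acyclic. -/
theorem isAcyclicObj_pi [HasInjectiveResolutions X.Modules] {κ : Type u} [Finite κ] (M : κ → X.Modules)
    (h : ∀ k, RFPlus.IsAcyclicObj (Scheme.Modules.pushforward f) (M k)) :
    RFPlus.IsAcyclicObj (Scheme.Modules.pushforward f) (∏ᶜ M) := by
  intro i hi
  haveI : HasFiniteBiproducts X.Modules := HasFiniteBiproducts.of_hasFiniteProducts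
  haveI : HasFiniteBiproducts S.Modules := HasFiniteBiproducts.of_hasFiniteProducts
  haveI := RFPlus.rightDerived_additive (Scheme.Modules.pushforward f) i
  obtain ⟨n, ⟨e⟩⟩ := Finite.exists_equiv_fin κ
  let R := (Scheme.Modules.pushforward f).rightDerived i
  let M' : Fin n → X.Modules := fun k => M (e.symm k)
  refine IsZero.of_iso ?_ (R.mapIso ((Pi.reindex e.symm M).symm ≪≫ (biproduct.isoProduct M').symm))
  rw [IsZero.iff_id_eq_zero, ← R.map_id,
    show 𝟙 (⨁ M') = ∑ k, biproduct.π M' k ≫ biproduct.ι M' k from biproduct.total.symm, R.map_sum]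
  refine Finset.sum_eq_zero fun k _ => ?_
  rw [R.map_comp, (h (e.symm k) i hi).eq_of_tgt (R.map (biproduct.π M' k)) 0, zero_comp]

end Prod

end Groth.Agent.RelCech8
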