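import Groth.Agent.Lib.RelCech8.Terms
import Groth.Agent.S6531
import Groth.Agent.Lib.RFPlus.MapExtend

/-!
# The relative Čech complex computes `Rf_*`
-/

set_option autoImplicit false
set_option linter.style.haveILetI false
set_option linter.unusedSectionVars false
set_option backward.isDefEq.respectTransparency false
set_option backward.isDefEq.respectTransparency.types false

universe u

open CategoryTheory CategoryTheory.Limits AlgebraicGeometry Opposite TopologicalSpace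

namespace Groth.Agent.RelCech8

attribute [local instance] HasDerivedCategory.standard

variable {X S : Scheme.{u}} {ι : Type u} (𝒰 : ι → X.Opens)

theorem isAffineOpen_tm [IsAffineHom (pullback.diagonal (terminal.from X))] (h𝒰 : ∀ i, IsAffineOpen (𝒰 i))
    {n : ℕ} (J : Fin (n + 1) → ι) : IsAffineOpen (∏ᶜ (𝒰 ∘ J) : X.Opens) := by
  rw [show (∏ᶜ (𝒰 ∘ J) : X.Opens) = ⨅ k, 𝒰 (J k) from le_antisymm
    (le_iInf fun k => leOfHom (Pi.π (𝒰 ∘ J) k)) (leOfHom (Pi.lift fun k => homOfLE (iInf_le (fun k => 𝒰 (J k)) k)))]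
  exact IsAffineOpen.iInf fun k => h𝒰 (J k)

theorem isAffineHom_of_affine {W : Scheme.{u}} [IsAffine W] [IsAffineHom (pullback.diagonal (terminal.from S))]
    (k : W ⟶ S) : IsAffineHom k := by
  haveI : MorphismProperty.HasOfPostcompProperty @IsAffineHom (MorphismProperty.diagonal @IsAffineHom) :=
    MorphismProperty.hasOfPostcompProperty_iff_le_diagonal.mpr le_rfl
  exact MorphismProperty.of_postcomp (W := @IsAffineHom) (W' := MorphismProperty.diagonal @IsAffineHom)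
    k (terminal.from S) ‹_› (inferInstanceAs (IsAffineHom (k ≫ terminal.from S)))

/-- A property of all the terms passes to the extension by zero. -/
theorem prop_extend {A : Type*} [Category* A] [Preadditive A] [HasZeroObject A] (K : CochainComplex A ℕ) (P : A → Prop)
    (hiso : ∀ {M N : A}, (M ≅ N) → P M → P N) (hzero : ∀ {M : A}, IsZero M → P M)
    (h : ∀ p, P (K.X p)) (n : ℤ) : P ((K.extend ComplexShape.embeddingUpNat).X n) := by
  by_cases hn : ∃ k : ℕ, ComplexShape.embeddingUpNat.f k = n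
  · obtain ⟨k, hk⟩ := hn
    exact hiso (K.extendXIso ComplexShape.embeddingUpNat hk).symm (h k)
  · exact hzero (K.isZero_extend_X _ n (fun k hk => hn ⟨k, hk⟩))

variable (F : X.Modules) (hF : Coh.IsQCoh F) [Finite ι] [IsAffineHom (pullback.diagonal (terminal.from X))]
  (h𝒰 : ∀ i, IsAffineOpen (𝒰 i)) (f : X ⟶ S) [IsAffineHom (pullback.diagonal (terminal.from S))]

include hF h𝒰

theorem isQCoh_cechSh (p : ℕ) : Coh.IsQCoh (((CechOX.cechSh 𝒰).obj F).X p) := by
  show Coh.IsQCoh (∏ᶜ fun J : Fin (p + 1) → ι => (CechOX.pushRestr (∏ᶜ (𝒰 ∘ J))).obj F)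
  refine isQCoh_pi _ fun J => ?_
  haveI : IsAffine (∏ᶜ (𝒰 ∘ J) : X.Opens).toScheme := isAffineOpen_tm 𝒰 h𝒰 J
  haveI := isAffineHom_of_affine (S := X) (∏ᶜ (𝒰 ∘ J) : X.Opens).ι
  have h := M1.isQCoh_push (∏ᶜ (𝒰 ∘ J) : X.Opens).ι (F := F.restrict (∏ᶜ (𝒰 ∘ J) : X.Opens).ι) (M1.isQCoh_restrict hF _)
  exact h

theorem isAcyclicObj_cechSh [QuasiCompact f] [QuasiSeparated f] (p : ℕ) :
    RFPlus.IsAcyclicObj (Scheme.Modules.pushforward f) (((CechOX.cechSh 𝒰).obj F).X p) := by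
  show RFPlus.IsAcyclicObj _ (∏ᶜ fun J : Fin (p + 1) → ι => (CechOX.pushRestr (∏ᶜ (𝒰 ∘ J))).obj F)
  refine isAcyclicObj_pi f _ fun J => ?_
  haveI : IsAffine (∏ᶜ (𝒰 ∘ J) : X.Opens).toScheme := isAffineOpen_tm 𝒰 h𝒰 J
  haveI := isAffineHom_of_affine (S := X) (∏ᶜ (𝒰 ∘ J) : X.Opens).ι
  haveI := isAffineHom_of_affine (S := S) ((∏ᶜ (𝒰 ∘ J) : X.Opens).ι ≫ f)
  have h := isAcyclicObj_push (∏ᶜ (𝒰 ∘ J) : X.Opens).ι f (N := F.restrict (∏ᶜ (𝒰 ∘ J) : X.Opens).ι) (M1.isQCoh_restrict hF _)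
  exact h

theorem isQCoh_relCech [QuasiCompact f] [QuasiSeparated f] (p : ℕ) :
    Coh.IsQCoh (((CechOX.relCech 𝒰 f).obj F).X p) :=
  M1.isQCoh_push f (isQCoh_cechSh 𝒰 F hF h𝒰 p)

omit [Finite ι] [IsAffineHom (pullback.diagonal (terminal.from X))] [IsAffineHom (pullback.diagonal (terminal.from S))] hF h𝒰 in
/-- The Čech complex of sheaves is a resolution. -/
theorem nonempty_toD_cechShZ (hcov : ⨆ i, 𝒰 i = ⊤) :
    Nonempty (DCoh.inD X F ≅ DCoh.toD X (CechOX.cechShZ 𝒰 F)) := by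
  obtain ⟨hm, hd, hker, hvan⟩ := S6531.result 𝒰 hcov F
  haveI := hm
  let C := (CechOX.cechSh 𝒰).obj F
  let φ : (CochainComplex.single₀ X.Modules).obj F ⟶ C :=
    (CochainComplex.fromSingle₀Equiv C F).symm ⟨CechOX.cechShAug 𝒰 F, hd⟩
  have hφ : φ.f 0 = CechOX.cechShAug 𝒰 F := CochainComplex.fromSingle₀Equiv_symm_apply_f_zero _ _
  haveI : QuasiIso φ := by
    rw [quasiIso_iff]
    rintro (_ | p)
    · rw [CochainComplex.quasiIsoAt₀_iff, ShortComplex.quasiIso_iff_of_zeros _ rfl rfl (by simp)]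
      refine ⟨?_, ?_⟩
      · rw [ShortComplex.exact_iff_exact_up_to_refinements]
        intro T y hy
        obtain ⟨y', hy', -⟩ := hker T y (by simpa using hy)
        exact ⟨T, 𝟙 _, inferInstance, y', by simp [hφ, hy']⟩
      · simp [hφ]
        exact hm
    · rw [quasiIsoAt_iff_exactAt φ (p + 1) (HomologicalComplex.exactAt_single_obj _ _ _ _ (Nat.succ_ne_zero p))]
      exact (HomologicalComplex.exactAt_iff_isZero_homology _ _).2 (hvan p)
  haveI : QuasiIso (HomologicalComplex.extendMap φ ComplexShape.embeddingUpNat) :=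
    (HomologicalComplex.quasiIso_extendMap_iff _ _).2 ‹_›
  exact ⟨(DerivedCategory.singleFunctorIsoCompQ X.Modules 0).app F ≪≫
    DerivedCategory.Q.mapIso (HomologicalComplex.extendSingleIso ComplexShape.embeddingUpNat F 0 (0 : ℤ) rfl).symm ≪≫
    asIso (DerivedCategory.Q.map (HomologicalComplex.extendMap φ ComplexShape.embeddingUpNat))⟩

/-- The relative Čech complex computes the derived direct image. -/
theorem nonempty_iso_Rpush [QuasiCompact f] [QuasiSeparated f] (hcov : ⨆ i, 𝒰 i = ⊤) [DCoh.HasRpush f] :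
    Nonempty (DCoh.toD S (CechOX.relCechZ 𝒰 f F) ≅ (DCoh.Rpush f).obj (DCoh.inD X F)) := by
  obtain ⟨e⟩ := nonempty_toD_cechShZ 𝒰 F hcov
  haveI := DPush9.isIso_βp f (CechOX.cechShZ 𝒰 F)
    (fun n => prop_extend _ Coh.IsQCoh (fun e h => M1.isQCoh_of_isIso e h) DPush.isQCoh_of_isZero
      (isQCoh_cechSh 𝒰 F hF h𝒰) n)
    (fun n => prop_extend _ (RFPlus.IsAcyclicObj (Scheme.Modules.pushforward f))
      (fun e h i hi => (h i hi).of_iso (((Scheme.Modules.pushforward f).rightDerived i).mapIso e.symm))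
      (fun hz => by
        haveI := hz.injective
        exact RFPlus.isAcyclicObj_injective _ _)
      (isAcyclicObj_cechSh 𝒰 F hF h𝒰 f) n)
  exact ⟨DerivedCategory.Q.mapIso (RFPlus.mapExtendIso (Scheme.Modules.pushforward f)
      ComplexShape.embeddingUpNat ((CechOX.cechSh 𝒰).obj F)).symm ≪≫
    asIso ((DPush9.βp f).app (CechOX.cechShZ 𝒰 F)) ≪≫ (DCoh.Rpush f).mapIso e.symm⟩

end Groth.Agent.RelCech8
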