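import Groth.Agent.Lib.RelCech8.Fam
import Groth.Agent.Lib.RelCech8.Terms

/-!
# Base change of the terms of the relative Čech complex
-/

set_option autoImplicit false
set_option linter.style.haveILetI false
set_option linter.unusedSectionVars false
set_option backward.isDefEq.respectTransparency false
set_option backward.isDefEq.respectTransparency.types false

universe u

open CategoryTheory CategoryTheory.Limits AlgebraicGeometry Opposite TopologicalSpace TensorProduct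

noncomputable section

namespace Groth.Agent.RelCech8

open PullBC11

variable {X S X' S' : Scheme.{u}} {f : X ⟶ S} {g : S' ⟶ S} {g' : X' ⟶ X} {f' : X' ⟶ S'}

/-- `f_* g'_* = g_* f'_*`. -/
def swapIso (h : IsPullback g' f' f g) :
    Scheme.Modules.pushforward g' ⋙ Scheme.Modules.pushforward f ≅
      Scheme.Modules.pushforward f' ⋙ Scheme.Modules.pushforward g :=
  Scheme.Modules.pushforwardComp g' f ≪≫ Scheme.Modules.pushforwardCongr h.w ≪≫
    (Scheme.Modules.pushforwardComp f' g).symm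

theorem swapIso_app (h : IsPullback g' f' f g) (N : X'.Modules) (U : S.Opens) (s) :
    ((swapIso h).hom.app N).app U s =
      N.presheaf.map (homOfLE (le_of_eq ((congrArg (fun t => t ⁻¹ᵁ U) h.w).symm :
        f' ⁻¹ᵁ (g ⁻¹ᵁ U) = g' ⁻¹ᵁ (f ⁻¹ᵁ U)))).op s := by
  show ((Scheme.Modules.pushforwardComp f' g).inv.app N).app U
      (((Scheme.Modules.pushforwardCongr h.w).hom.app N).app U
        (((Scheme.Modules.pushforwardComp g' f).hom.app N).app U s)) = _
  rw [Scheme.Modules.pushforwardComp_inv_app_app, Scheme.Modules.pushforwardCongr_hom_app_app,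
    Scheme.Modules.pushforwardComp_hom_app_app]
  simp only [Category.id_comp]
  rfl

/-- The comparison for one member of the family. -/
def theta (h : IsPullback g' f' f g) (F : X.Modules) {W : X.Opens} {W' : X'.Opens} (hW : W' ≤ g' ⁻¹ᵁ W) :
    (Scheme.Modules.pushforward f).obj ((CechOX.pushRestr W).obj F) ⟶ (Scheme.Modules.pushforward g).obj
      ((Scheme.Modules.pushforward f').obj ((CechOX.pushRestr W').obj ((Scheme.Modules.pullback g').obj F))) :=
  (Scheme.Modules.pushforward f).map (psi g' F hW) ≫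
    (swapIso h).hom.app ((CechOX.pushRestr W').obj ((Scheme.Modules.pullback g').obj F))

theorem le_sect (h : IsPullback g' f' f g) {W : X.Opens} {W' : X'.Opens} (hW : W' ≤ g' ⁻¹ᵁ W) {U : S.Opens}
    {V : S'.Opens} (hle : V ≤ g ⁻¹ᵁ U) :
    W'.ι ''ᵁ (W'.ι ⁻¹ᵁ (f' ⁻¹ᵁ V)) ≤ g' ⁻¹ᵁ (W.ι ''ᵁ (W.ι ⁻¹ᵁ (f ⁻¹ᵁ U))) :=
  ((W'.ι.opensFunctor.map (homOfLE (fun _ hx => le_pre h hle hx :
    W'.ι ⁻¹ᵁ (f' ⁻¹ᵁ V) ≤ W'.ι ⁻¹ᵁ (g' ⁻¹ᵁ (f ⁻¹ᵁ U))))).le).trans (le_inter g' hW (f ⁻¹ᵁ U))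

theorem sect_theta (h : IsPullback g' f' f g) (F : X.Modules) {W : X.Opens} {W' : X'.Opens} (hW : W' ≤ g' ⁻¹ᵁ W)
    {U : S.Opens} {V : S'.Opens} (hle : V ≤ g ⁻¹ᵁ U) (s : Γ(F, W.ι ''ᵁ (W.ι ⁻¹ᵁ (f ⁻¹ᵁ U)))) :
    M1.mres ((Scheme.Modules.pushforward f').obj ((CechOX.pushRestr W').obj ((Scheme.Modules.pullback g').obj F)))
        hle ((theta h F hW).app U s) =
      M1.mres ((Scheme.Modules.pullback g').obj F) (le_sect h hW hle) (M2.pullSec g' F s) := by
  show M1.mres _ hle (((swapIso h).hom.app ((CechOX.pushRestr W').obj ((Scheme.Modules.pullback g').obj F))).app U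
    ((psi g' F hW).app (f ⁻¹ᵁ U) s : Γ((Scheme.Modules.pushforward g' ⋙ Scheme.Modules.pushforward f).obj
      ((CechOX.pushRestr W').obj ((Scheme.Modules.pullback g').obj F)), U))) = _
  rw [swapIso_app, psi_apply]
  let N := (Scheme.Modules.pullback g').obj F
  show M1.mres N (W'.ι.image_mono (W'.ι.preimage_mono (f'.preimage_mono hle)))
    (M1.mres N (W'.ι.image_mono (W'.ι.preimage_mono
      (le_of_eq ((congrArg (fun t => t ⁻¹ᵁ U) h.w).symm : f' ⁻¹ᵁ (g ⁻¹ᵁ U) = g' ⁻¹ᵁ (f ⁻¹ᵁ U)))))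
      (M1.mres N (le_inter g' hW (f ⁻¹ᵁ U)) (M2.pullSec g' F s))) = M1.mres N (le_sect h hW hle) (M2.pullSec g' F s)
  exact (M1.mres_mres N _ _ _).trans (M1.mres_mres N _ _ _)

theorem isBC_theta (h : IsPullback g' f' f g) (F : X.Modules) (hF : Coh.IsQCoh F) {W : X.Opens} {W' : X'.Opens}
    (hW : W' ≤ g' ⁻¹ᵁ W) (hW' : g' ⁻¹ᵁ W ≤ W') [IsAffineHom (W.ι ≫ f)] [IsAffineHom (W'.ι ≫ f')]
    {U : S.Opens} (hU : IsAffineOpen U) {V : S'.Opens} (hV : IsAffineOpen V) (hle : V ≤ g ⁻¹ᵁ U) :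
    IsBC (theta h F hW) hle := by
  haveI := hF
  let A := W.ι ''ᵁ (W.ι ⁻¹ᵁ (f ⁻¹ᵁ U))
  let A' := W'.ι ''ᵁ (W'.ι ⁻¹ᵁ (f' ⁻¹ᵁ V))
  have hA : IsAffineOpen A := (hU.preimage (W.ι ≫ f)).image_of_isOpenImmersion W.ι
  have hA' : IsAffineOpen A' := (hV.preimage (W'.ι ≫ f')).image_of_isOpenImmersion W'.ι
  have eA : A ≤ f ⁻¹ᵁ U := W.ι.image_preimage_le _
  have eA' : A' ≤ f' ⁻¹ᵁ V := W'.ι.image_preimage_le _
  have e : A' ≤ g' ⁻¹ᵁ A := le_sect h hW hle
  have eq : A' = g' ⁻¹ᵁ A ⊓ f' ⁻¹ᵁ V := by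
    refine le_antisymm (le_inf e eA') ?_
    show _ ≤ W'.ι ''ᵁ (W'.ι ⁻¹ᵁ (f' ⁻¹ᵁ V))
    rw [Scheme.Hom.image_preimage_eq_opensRange_inf, Scheme.Opens.opensRange_ι]
    rintro x ⟨hx, hxV⟩
    refine ⟨hW' ?_, hxV⟩
    have hx' : g' x ∈ W.ι ''ᵁ (W.ι ⁻¹ᵁ (f ⁻¹ᵁ U)) := hx
    rw [Scheme.Hom.image_preimage_eq_opensRange_inf, Scheme.Opens.opensRange_ι] at hx'
    exact hx'.1
  haveI : IsIso (((Scheme.Modules.pullbackPushforwardAdjunction g').homEquiv F
      ((Scheme.Modules.pullback g').obj F)).symm ((Scheme.Modules.pullbackPushforwardAdjunction g').unit.app F)) := by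
    rw [← Adjunction.homEquiv_id, Equiv.symm_apply_apply]
    infer_instance
  have hη := isBC_of_isIso (N := (Scheme.Modules.pullback g').obj F)
    (show F ⟶ (Scheme.Modules.pushforward g').obj ((Scheme.Modules.pullback g').obj F) from
      (Scheme.Modules.pullbackPushforwardAdjunction g').unit.app F) hF
    (M1.isQCoh_pullback g' hF) hA hA' e
  have hpo := FlatH4.isPushout_sections (g := g') (iY := f') (iX := f) (f := g) h (UT := V) hle eA eq hU hV hA
  -- algebras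
  letI a1 : Algebra Γ(S, U) Γ(S', V) := (g.appLE U V hle).hom.toAlgebra
  letI a2 : Algebra Γ(S, U) Γ(X, A) := (f.appLE U A eA).hom.toAlgebra
  letI a3 : Algebra Γ(X, A) Γ(X', A') := (g'.appLE A A' e).hom.toAlgebra
  letI a4 : Algebra Γ(S', V) Γ(X', A') := (f'.appLE V A' eA').hom.toAlgebra
  letI a5 : Algebra Γ(S, U) Γ(X', A') :=
    ((algebraMap Γ(X, A) Γ(X', A')).comp (algebraMap Γ(S, U) Γ(X, A))).toAlgebra
  haveI t1 : IsScalarTower Γ(S, U) Γ(X, A) Γ(X', A') := IsScalarTower.of_algebraMap_eq' rfl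
  haveI t2 : IsScalarTower Γ(S, U) Γ(S', V) Γ(X', A') := IsScalarTower.of_algebraMap_eq' (by
    exact congrArg CommRingCat.Hom.hom hpo.w)
  haveI : Algebra.IsPushout Γ(S, U) Γ(X, A) Γ(S', V) Γ(X', A') := CommRingCat.isPushout_iff_isPushout.1 hpo
  haveI : Algebra.IsPushout Γ(S, U) Γ(S', V) Γ(X, A) Γ(X', A') := Algebra.IsPushout.symm inferInstance
  -- modules
  let N := (Scheme.Modules.pullback g').obj F
  let P := (Scheme.Modules.pushforward f').obj ((CechOX.pushRestr W').obj N)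
  letI := baseModule (g := g') N e
  haveI : IsScalarTower Γ(X, A) Γ(X', A') Γ(N, A') := IsScalarTower.of_algebraMap_smul fun _ _ => rfl
  letI mU : Module Γ(S, U) Γ(F, A) := Module.compHom _ (f.appLE U A eA).hom
  haveI : IsScalarTower Γ(S, U) Γ(X, A) Γ(F, A) := IsScalarTower.of_algebraMap_smul fun _ _ => rfl
  letI mV : Module Γ(S', V) Γ(N, A') := Module.compHom _ (f'.appLE V A' eA').hom
  haveI : IsScalarTower Γ(S', V) Γ(X', A') Γ(N, A') := IsScalarTower.of_algebraMap_smul fun _ _ => rfl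
  let cc := Algebra.IsPushout.cancelBaseChange Γ(S, U) Γ(S', V) Γ(X, A) Γ(X', A') Γ(F, A)
  have key : ∀ s : Γ(F, A), hη.equiv (cc.symm (1 ⊗ₜ s)) = M1.mres N e (M2.pullSec g' F s) := fun s => by
    rw [Algebra.IsPushout.cancelBaseChange_symm_tmul, map_one]
    exact (hη.equiv_tmul 1 s).trans (one_smul _ _)
  let E : Γ(S', V) ⊗[Γ(S, U)] Γ(F, A) ≃ₗ[Γ(S', V)] Γ(N, A') :=
    (cc.symm.toAddEquiv.trans hη.equiv.toAddEquiv).toLinearEquiv fun c z => by
      show hη.equiv (cc.symm (c • z)) = c • hη.equiv (cc.symm z)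
      rw [map_smul, ← algebraMap_smul Γ(X', A') c, map_smul]
      rfl
  have hmU : ∀ (r : Γ(S, U)) (s : Γ((Scheme.Modules.pushforward f).obj ((CechOX.pushRestr W).obj F), U)),
      r • s = (f.appLE U A eA r • (show Γ(F, A) from s) : Γ(F, A)) := fun r s => by
    show ((W.ι.appIso (W.ι ⁻¹ᵁ (f ⁻¹ᵁ U))).inv (W.ι.app (f ⁻¹ᵁ U) (f.app U r))) • (show Γ(F, A) from s) = _
    congr 1
    have h1 := ConcreteCategory.congr_hom (W.ι.app_appIso_inv (f ⁻¹ᵁ U)) (f.app U r)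
    simp only [CategoryTheory.comp_apply] at h1
    exact h1
  have hmV : ∀ (r : Γ(S', V)) (t : Γ(P, V)),
      r • t = (f'.appLE V A' eA' r • (show Γ(N, A') from t) : Γ(N, A')) := fun r t => by
    show ((W'.ι.appIso (W'.ι ⁻¹ᵁ (f' ⁻¹ᵁ V))).inv (W'.ι.app (f' ⁻¹ᵁ V) (f'.app V r))) • (show Γ(N, A') from t) = _
    congr 1
    have h1 := ConcreteCategory.congr_hom (W'.ι.app_appIso_inv (f' ⁻¹ᵁ V)) (f'.app V r)
    simp only [CategoryTheory.comp_apply] at h1
    exact h1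
  -- compare
  letI := baseModule (g := g) P hle
  haveI : IsScalarTower Γ(S, U) Γ(S', V) Γ(P, V) := IsScalarTower.of_algebraMap_smul fun _ _ => rfl
  let eM : Γ((Scheme.Modules.pushforward f).obj ((CechOX.pushRestr W).obj F), U) ≃ₗ[Γ(S, U)] Γ(F, A) :=
    { toFun := fun s => s, invFun := fun s => s, map_add' := fun _ _ => rfl, map_smul' := hmU
      left_inv := fun _ => rfl, right_inv := fun _ => rfl }
  let eN : Γ(N, A') ≃ₗ[Γ(S', V)] Γ(P, V) :=
    { toFun := fun t => t, invFun := fun t => t, map_add' := fun _ _ => rfl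
      map_smul' := fun r t => (hmV r t).symm
      left_inv := fun _ => rfl, right_inv := fun _ => rfl }
  have hE : IsBaseChange Γ(S', V) (sect (theta h F hW) hle) :=
    IsBaseChange.of_equiv ((eM.baseChange Γ(S, U) Γ(S', V)).trans (E.trans eN)) fun s =>
      (key s).trans (sect_theta h F hW hle s).symm
  delta IsBC
  exact hE

theorem isAffineHom_pre (h : IsPullback g' f' f g) (W : X.Opens) [IsAffineHom (W.ι ≫ f)] :
    IsAffineHom ((g' ⁻¹ᵁ W).ι ≫ f') :=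
  MorphismProperty.of_isPullback ((isPullback_morphismRestrict g' W).paste_vert h) inferInstance

theorem isQCoh_push_pushRestr (F : X.Modules) (hF : Coh.IsQCoh F) (W : X.Opens) [IsAffineHom (W.ι ≫ f)] :
    Coh.IsQCoh ((Scheme.Modules.pushforward f).obj ((CechOX.pushRestr W).obj F)) :=
  M1.isQCoh_of_isIso ((Scheme.Modules.pushforwardComp W.ι f).symm.app (F.restrict W.ι))
    (M1.isQCoh_push (W.ι ≫ f) (M1.isQCoh_restrict hF W.ι))

/-- Base change for one member of the family. -/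
theorem isIso_theta (h : IsPullback g' f' f g) (F : X.Modules) (hF : Coh.IsQCoh F) {W : X.Opens} {W' : X'.Opens}
    (hW : W' ≤ g' ⁻¹ᵁ W) (hW' : g' ⁻¹ᵁ W ≤ W') [IsAffineHom (W.ι ≫ f)] :
    IsIso (((Scheme.Modules.pullbackPushforwardAdjunction g).homEquiv _ _).symm (theta h F hW)) := by
  obtain rfl : W' = g' ⁻¹ᵁ W := le_antisymm hW hW'
  haveI := isAffineHom_pre h W
  refine isIso_of_isBC _ (isQCoh_push_pushRestr F hF W)
    (isQCoh_push_pushRestr _ (M1.isQCoh_pullback g' hF) (g' ⁻¹ᵁ W)) fun y => ?_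
  obtain ⟨U, hU, hyU, -⟩ := exists_isAffineOpen_mem_and_subset (X := S) (x := g y) (U := ⊤) trivial
  obtain ⟨V, hV, hyV, hVle⟩ := exists_isAffineOpen_mem_and_subset (X := S') (x := y) (U := g ⁻¹ᵁ U) hyU
  exact ⟨U, hU, V, hV, hVle, hyV, isBC_theta h F hF hW hW' hU hV hVle⟩

end Groth.Agent.RelCech8
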