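import Groth.Agent.Lib.RelCech8.BC
import Groth.Agent.Lib.RelCech8.Main

/-!
# Base change of the relative Čech complex
-/

set_option autoImplicit false
set_option linter.style.haveILetI false
set_option linter.unusedSectionVars false
set_option backward.isDefEq.respectTransparency false
set_option backward.isDefEq.respectTransparency.types false

universe u

open CategoryTheory CategoryTheory.Limits AlgebraicGeometry Opposite TopologicalSpace

noncomputable section

namespace Groth.Agent.RelCech8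

/-- An additive functor preserves finite products. -/
theorem preservesLimitsOfShape_discrete {A B : Type*} [Category* A] [Category* B] [Preadditive A] [Preadditive B]
    [HasFiniteProducts A] (G : A ⥤ B) [G.Additive] {κ : Type u} [Finite κ] :
    PreservesLimitsOfShape (Discrete κ) G := by
  obtain ⟨n, ⟨e⟩⟩ := Finite.exists_equiv_fin κ
  exact preservesLimitsOfShape_of_equiv (Discrete.equivalence e.symm) G

variable {X S X' S' : Scheme.{u}} {f : X ⟶ S} {g : S' ⟶ S} {g' : X' ⟶ X} {f' : X' ⟶ S'}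
  (h : IsPullback g' f' f g) {ι : Type u} (𝒰 : ι → X.Opens) (F : X.Modules)

/-- The comparison in degree `n`. -/
def phiN (n : ℕ) : ((CechOX.relCech 𝒰 f).obj F).X n ⟶ (Scheme.Modules.pushforward g).obj
    (((CechOX.relCech (pre g' 𝒰) f').obj ((Scheme.Modules.pullback g').obj F)).X n) :=
  (Scheme.Modules.pushforward f).map (psiN g' F 𝒰 n) ≫
    (swapIso h).hom.app (((CechOX.cechSh (pre g' 𝒰)).obj ((Scheme.Modules.pullback g').obj F)).X n)

theorem phiN_comm (p q : ℕ) :
    phiN h 𝒰 F p ≫ (Scheme.Modules.pushforward g).map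
        (((CechOX.relCech (pre g' 𝒰) f').obj ((Scheme.Modules.pullback g').obj F)).d p q) =
      ((CechOX.relCech 𝒰 f).obj F).d p q ≫ phiN h 𝒰 F q := by
  let C' := (CechOX.cechSh (pre g' 𝒰)).obj ((Scheme.Modules.pullback g').obj F)
  have e : psiN g' F 𝒰 p ≫ (Scheme.Modules.pushforward g').map (C'.d p q) =
      ((CechOX.cechSh 𝒰).obj F).d p q ≫ psiN g' F 𝒰 q := (psiC g' F 𝒰).comm p q
  show ((Scheme.Modules.pushforward f).map (psiN g' F 𝒰 p) ≫ (swapIso h).hom.app (C'.X p)) ≫
      (Scheme.Modules.pushforward f' ⋙ Scheme.Modules.pushforward g).map (C'.d p q) =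
    (Scheme.Modules.pushforward f).map (((CechOX.cechSh 𝒰).obj F).d p q) ≫
      (Scheme.Modules.pushforward f).map (psiN g' F 𝒰 q) ≫ (swapIso h).hom.app (C'.X q)
  rw [Category.assoc, ← (swapIso h).hom.naturality, Functor.comp_map, ← Category.assoc, ← Functor.map_comp, e,
    Functor.map_comp, Category.assoc]

variable [(Scheme.Modules.pullback g).Additive]

/-- The comparison of complexes. -/
def tau : ((Scheme.Modules.pullback g).mapHomologicalComplex (ComplexShape.up ℕ)).obj ((CechOX.relCech 𝒰 f).obj F) ⟶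
    (CechOX.relCech (pre g' 𝒰) f').obj ((Scheme.Modules.pullback g').obj F) where
  f n := ((Scheme.Modules.pullbackPushforwardAdjunction g).homEquiv _ _).symm (phiN h 𝒰 F n)
  comm' p q _ := by
    rw [Functor.mapHomologicalComplex_obj_d, ← Adjunction.homEquiv_naturality_right_symm,
      ← Adjunction.homEquiv_naturality_left_symm, phiN_comm]

variable [Finite ι] (hF : Coh.IsQCoh F)

omit [(Scheme.Modules.pullback g).Additive] [Finite ι] in
theorem comp_natTrans {A B C D : Type*} [Category* A] [Category* B] [Category* C] [Category* D] (Ff : B ⥤ D)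
    (Gg : A ⥤ B) (Hf : A ⥤ C) (Kg : C ⥤ D) (s : Gg ⋙ Ff ⟶ Hf ⋙ Kg) {M₀ M₁ : B} {N₀ N₁ : A} (x : M₀ ⟶ Gg.obj N₀)
    (y : N₀ ⟶ N₁) (p : M₀ ⟶ M₁) (x' : M₁ ⟶ Gg.obj N₁) (e : x ≫ Gg.map y = p ≫ x') :
    (Ff.map x ≫ s.app N₀) ≫ Kg.map (Hf.map y) = Ff.map p ≫ (Ff.map x' ≫ s.app N₁) := by
  have := s.naturality y
  simp only [Functor.comp_map] at this
  rw [Category.assoc, ← this, ← Category.assoc, ← Ff.map_comp, e, Ff.map_comp, Category.assoc]

theorem phiN_π (n : ℕ) (J : Fin (n + 1) → ι) :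
    phiN h 𝒰 F n ≫ (Scheme.Modules.pushforward g).map ((Scheme.Modules.pushforward f').map
        (Pi.π (fun J : Fin (n + 1) → ι =>
          (CechOX.pushRestr (∏ᶜ (pre g' 𝒰 ∘ J))).obj ((Scheme.Modules.pullback g').obj F)) J)) =
      (Scheme.Modules.pushforward f).map
        (Pi.π (fun J : Fin (n + 1) → ι => (CechOX.pushRestr (∏ᶜ (𝒰 ∘ J))).obj F) J) ≫
        theta h F (tm_le g' 𝒰 J) := by
  let Q : (Fin (n + 1) → ι) → X'.Modules := fun J =>
    (CechOX.pushRestr (∏ᶜ (pre g' 𝒰 ∘ J))).obj ((Scheme.Modules.pullback g').obj F)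
  exact comp_natTrans (Scheme.Modules.pushforward f) (Scheme.Modules.pushforward g') (Scheme.Modules.pushforward f')
    (Scheme.Modules.pushforward g) (swapIso h).hom (psiN g' F 𝒰 n) (Pi.π Q J) _ _ (psiN_π g' F 𝒰 n J)

include hF

theorem isIso_tau_f (haff : ∀ (n : ℕ) (J : Fin (n + 1) → ι), IsAffineHom ((∏ᶜ (𝒰 ∘ J) : X.Opens).ι ≫ f))
    (n : ℕ) : IsIso ((tau h 𝒰 F).f n) := by
  haveI : Finite (Fin (n + 1) → ι) := inferInstance
  let adj := Scheme.Modules.pullbackPushforwardAdjunction g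
  let P : (Fin (n + 1) → ι) → X.Modules := fun J => (CechOX.pushRestr (∏ᶜ (𝒰 ∘ J))).obj F
  let Q : (Fin (n + 1) → ι) → X'.Modules := fun J =>
    (CechOX.pushRestr (∏ᶜ (pre g' 𝒰 ∘ J))).obj ((Scheme.Modules.pullback g').obj F)
  haveI := preservesLimitsOfShape_discrete (Scheme.Modules.pushforward f ⋙ Scheme.Modules.pullback g)
    (κ := Fin (n + 1) → ι)
  let hd := isLimitFanMkObjOfIsLimit (Scheme.Modules.pushforward f ⋙ Scheme.Modules.pullback g) _ _ (productIsProduct P)
  let hc := isLimitFanMkObjOfIsLimit (Scheme.Modules.pushforward f') _ _ (productIsProduct Q)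
  haveI : ∀ J, IsIso ((adj.homEquiv _ _).symm (theta h F (tm_le g' 𝒰 J))) := fun J =>
    haveI := haff n J
    isIso_theta h F hF (tm_le g' 𝒰 J) (le_tm g' 𝒰 J)
  have hτ : ∀ J, (tau h 𝒰 F).f n ≫ (Scheme.Modules.pushforward f').map (Pi.π Q J) =
      (Scheme.Modules.pullback g).map ((Scheme.Modules.pushforward f).map (Pi.π P J)) ≫
        (adj.homEquiv _ _).symm (theta h F (tm_le g' 𝒰 J)) := fun J => by
    refine (adj.homEquiv_naturality_right_symm _ _).symm.trans ?_
    rw [← adj.homEquiv_naturality_left_symm]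
    exact congrArg (adj.homEquiv _ _).symm (phiN_π h 𝒰 F n J)
  let back := hd.lift (Fan.mk _ fun J => (Scheme.Modules.pushforward f').map (Pi.π Q J) ≫
    inv ((adj.homEquiv _ _).symm (theta h F (tm_le g' 𝒰 J))))
  have hb : ∀ J, back ≫ (Scheme.Modules.pullback g).map ((Scheme.Modules.pushforward f).map (Pi.π P J)) =
      (Scheme.Modules.pushforward f').map (Pi.π Q J) ≫ inv ((adj.homEquiv _ _).symm (theta h F (tm_le g' 𝒰 J))) :=
    fun J => hd.fac _ ⟨J⟩
  refine ⟨back, hd.hom_ext fun ⟨J⟩ => ?_, hc.hom_ext fun ⟨J⟩ => ?_⟩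
  · refine (Category.assoc _ _ _).trans ((congrArg (_ ≫ ·) (hb J)).trans ?_)
    rw [← Category.assoc, hτ, Category.assoc, IsIso.hom_inv_id, Category.comp_id]
    exact (Category.id_comp _).symm
  · refine (Category.assoc _ _ _).trans ((congrArg (_ ≫ ·) (hτ J)).trans ?_)
    rw [← Category.assoc, hb, Category.assoc, IsIso.inv_hom_id, Category.comp_id]
    exact (Category.id_comp _).symm

include h in
theorem nonempty_iso (haff : ∀ (n : ℕ) (J : Fin (n + 1) → ι), IsAffineHom ((∏ᶜ (𝒰 ∘ J) : X.Opens).ι ≫ f)) :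
    Nonempty (((Scheme.Modules.pullback g).mapHomologicalComplex (ComplexShape.up ℕ)).obj
      ((CechOX.relCech 𝒰 f).obj F) ≅ (CechOX.relCech (pre g' 𝒰) f').obj ((Scheme.Modules.pullback g').obj F)) := by
  haveI : ∀ n, IsIso ((tau h 𝒰 F).f n) := isIso_tau_f h 𝒰 F hF haff
  haveI : IsIso (tau h 𝒰 F) := HomologicalComplex.Hom.isIso_of_components _
  exact ⟨asIso (tau h 𝒰 F)⟩

end Groth.Agent.RelCech8
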