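import Groth.Prelude.Def_CechOX
import Groth.Agent.Lib.PullBC11.AffineBC
import Mathlib.Algebra.Category.ModuleCat.Abelian

/-!
# Pullback of sections on the members of the Čech family
-/

set_option autoImplicit false
set_option linter.style.haveILetI false
set_option linter.unusedSectionVars false
set_option backward.isDefEq.respectTransparency false
set_option backward.isDefEq.respectTransparency.types false

universe u

open CategoryTheory CategoryTheory.Limits AlgebraicGeometry Opposite TopologicalSpace AlgebraicTopology Simplicial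

noncomputable section

namespace Groth.Agent.RelCech8

variable {X X' : Scheme.{u}} (g' : X' ⟶ X)

theorem le_inter {W : X.Opens} {W' : X'.Opens} (h : W' ≤ g' ⁻¹ᵁ W) (V : X.Opens) :
    W'.ι ''ᵁ (W'.ι ⁻¹ᵁ (g' ⁻¹ᵁ V)) ≤ g' ⁻¹ᵁ (W.ι ''ᵁ (W.ι ⁻¹ᵁ V)) := by
  rw [Scheme.Hom.image_preimage_eq_opensRange_inf, Scheme.Hom.image_preimage_eq_opensRange_inf,
    Scheme.Opens.opensRange_ι, Scheme.Opens.opensRange_ι]
  exact fun x hx => ⟨h hx.1, hx.2⟩

/-- Restriction of sections `N(g'⁻¹(V ∩ W)) → N(g'⁻¹V ∩ W')`. -/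
def eMap {W : X.Opens} {W' : X'.Opens} (h : W' ≤ g' ⁻¹ᵁ W) (N : X'.Modules) :
    (CechOX.pushRestr W).obj ((Scheme.Modules.pushforward g').obj N) ⟶
      (Scheme.Modules.pushforward g').obj ((CechOX.pushRestr W').obj N) :=
  ⟨PresheafOfModules.homMk
    ({ app := fun V => N.presheaf.map (homOfLE (le_inter g' h V.unop)).op
       naturality := fun {U₁ U₂} i => by
        show N.presheaf.map ((Opens.map g'.base).op.map (W.ι.opensFunctor.op.map ((Opens.map W.ι.base).op.map i))) ≫ _ =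
          _ ≫ N.presheaf.map (W'.ι.opensFunctor.op.map ((Opens.map W'.ι.base).op.map ((Opens.map g'.base).op.map i)))
        rw [← N.presheaf.map_comp, ← N.presheaf.map_comp]
        exact congrArg _ (Subsingleton.elim _ _) } :
      ((CechOX.pushRestr W).obj ((Scheme.Modules.pushforward g').obj N)).presheaf ⟶
        ((Scheme.Modules.pushforward g').obj ((CechOX.pushRestr W').obj N)).presheaf) (fun V r m => by
      obtain ⟨V⟩ := V
      change ↑(Γ(X, V)) at r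
      change N.presheaf.map (homOfLE (le_inter g' h V)).op
          ((g'.app (W.ι ''ᵁ (W.ι ⁻¹ᵁ V)) ((W.ι.appIso (W.ι ⁻¹ᵁ V)).inv (W.ι.app V r))) •
            (show ↑Γ(N, g' ⁻¹ᵁ (W.ι ''ᵁ (W.ι ⁻¹ᵁ V))) from m)) =
        ((W'.ι.appIso (W'.ι ⁻¹ᵁ (g' ⁻¹ᵁ V))).inv (W'.ι.app (g' ⁻¹ᵁ V) (g'.app V r))) •
          N.presheaf.map (homOfLE (le_inter g' h V)).op (show ↑Γ(N, g' ⁻¹ᵁ (W.ι ''ᵁ (W.ι ⁻¹ᵁ V))) from m)
      rw [Scheme.Modules.map_smul]
      congr 1
      have h1 := ConcreteCategory.congr_hom (W.ι.app_appIso_inv V) r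
      have h2 := ConcreteCategory.congr_hom (W'.ι.app_appIso_inv (g' ⁻¹ᵁ V)) (g'.app V r)
      simp only [CategoryTheory.comp_apply] at h1 h2
      rw [h2, h1]
      have h3 := ConcreteCategory.congr_hom (g'.naturality (homOfLE (W.ι.image_preimage_le V)).op) r
      simp only [CategoryTheory.comp_apply] at h3
      refine (congrArg _ h3).trans ?_
      exact (ConcreteCategory.congr_hom (X'.presheaf.map_comp _ _) (g'.app V r)).symm)⟩

theorem eMap_app {W : X.Opens} {W' : X'.Opens} (h : W' ≤ g' ⁻¹ᵁ W) (N : X'.Modules) (V : X.Opens) :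
    (eMap g' h N).app V = N.presheaf.map (homOfLE (le_inter g' h V)).op := rfl

variable (F : X.Modules)

/-- Pullback of sections from `V ∩ W` to `g'⁻¹V ∩ W'`. -/
def psi {W : X.Opens} {W' : X'.Opens} (h : W' ≤ g' ⁻¹ᵁ W) :
    (CechOX.pushRestr W).obj F ⟶
      (Scheme.Modules.pushforward g').obj ((CechOX.pushRestr W').obj ((Scheme.Modules.pullback g').obj F)) :=
  (CechOX.pushRestr W).map ((Scheme.Modules.pullbackPushforwardAdjunction g').unit.app F) ≫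
    eMap g' h ((Scheme.Modules.pullback g').obj F)

theorem psi_apply {W : X.Opens} {W' : X'.Opens} (h : W' ≤ g' ⁻¹ᵁ W) (V : X.Opens)
    (s : Γ(F, W.ι ''ᵁ (W.ι ⁻¹ᵁ V))) :
    (psi g' F h).app V s = M1.mres ((Scheme.Modules.pullback g').obj F) (le_inter g' h V) (M2.pullSec g' F s) := rfl

theorem psi_res {W₁ W₂ : X.Opens} {W₁' W₂' : X'.Opens} (h₁ : W₁' ≤ g' ⁻¹ᵁ W₁) (h₂ : W₂' ≤ g' ⁻¹ᵁ W₂)
    (a : W₂ ≤ W₁) (a' : W₂' ≤ W₁') :
    CechOX.pushRestrMapApp a F ≫ psi g' F h₂ =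
      psi g' F h₁ ≫ (Scheme.Modules.pushforward g').map
        (CechOX.pushRestrMapApp a' ((Scheme.Modules.pullback g').obj F)) := by
  apply Scheme.Modules.hom_ext
  intro V
  ext s
  rw [Scheme.Modules.Hom.comp_app, Scheme.Modules.Hom.comp_app]
  show M1.mres _ (le_inter g' h₂ V) (M2.pullSec g' F (F.presheaf.map (homOfLE (CechOX.image_preimage_mono a V)).op s)) =
    M1.mres _ (CechOX.image_preimage_mono a' (g' ⁻¹ᵁ V)) (M1.mres _ (le_inter g' h₁ V) (M2.pullSec g' F s))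
  rw [M1.mres_mres]
  have e := ConcreteCategory.congr_hom (CechOX.app_naturality
    ((Scheme.Modules.pullbackPushforwardAdjunction g').unit.app F) (homOfLE (CechOX.image_preimage_mono a V)).op) s
  simp only [CategoryTheory.comp_apply] at e
  refine (congrArg (M1.mres _ (le_inter g' h₂ V)) e).trans ?_
  exact M1.mres_mres _ _ _ _

variable {ι : Type u} (𝒰 : ι → X.Opens)

/-- The pulled back family. -/
abbrev pre : ι → X'.Opens := fun i => g' ⁻¹ᵁ 𝒰 i

theorem tm_le {n : ℕ} (J : Fin n → ι) : (∏ᶜ (pre g' 𝒰 ∘ J) : X'.Opens) ≤ g' ⁻¹ᵁ (∏ᶜ (𝒰 ∘ J) : X.Opens) := by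
  intro x hx
  have h : (⨅ k, 𝒰 (J k)) ≤ (∏ᶜ (𝒰 ∘ J) : X.Opens) :=
    leOfHom (Pi.lift fun k => homOfLE (iInf_le (fun k => 𝒰 (J k)) k))
  refine h ?_
  rw [← SetLike.mem_coe, TopologicalSpace.Opens.coe_iInf, Set.mem_iInter]
  exact fun k => leOfHom (Pi.π (pre g' 𝒰 ∘ J) k) hx

theorem le_tm {n : ℕ} (J : Fin n → ι) : g' ⁻¹ᵁ (∏ᶜ (𝒰 ∘ J) : X.Opens) ≤ (∏ᶜ (pre g' 𝒰 ∘ J) : X'.Opens) :=
  leOfHom (Pi.lift fun k => homOfLE fun _ hx => leOfHom (Pi.π (𝒰 ∘ J) k) hx)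

/-- The family of pulled back sections in degree `n`. -/
def psiN (n : ℕ) : ((CechOX.cechSh 𝒰).obj F).X n ⟶
    (Scheme.Modules.pushforward g').obj
      (((CechOX.cechSh (pre g' 𝒰)).obj ((Scheme.Modules.pullback g').obj F)).X n) :=
  (isLimitFanMkObjOfIsLimit (Scheme.Modules.pushforward g') _ _
    (productIsProduct fun J : Fin (n + 1) → ι =>
      (CechOX.pushRestr (∏ᶜ (pre g' 𝒰 ∘ J))).obj ((Scheme.Modules.pullback g').obj F))).lift
    (Fan.mk _ fun J => Pi.π (fun J : Fin (n + 1) → ι => (CechOX.pushRestr (∏ᶜ (𝒰 ∘ J))).obj F) J ≫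
      psi g' F (tm_le g' 𝒰 J))

theorem psiN_π (n : ℕ) (J : Fin (n + 1) → ι) :
    psiN g' F 𝒰 n ≫ (Scheme.Modules.pushforward g').map
      (Pi.π (fun J : Fin (n + 1) → ι =>
        (CechOX.pushRestr (∏ᶜ (pre g' 𝒰 ∘ J))).obj ((Scheme.Modules.pullback g').obj F)) J) =
      Pi.π (fun J : Fin (n + 1) → ι => (CechOX.pushRestr (∏ᶜ (𝒰 ∘ J))).obj F) J ≫ psi g' F (tm_le g' 𝒰 J) :=
  (isLimitFanMkObjOfIsLimit (Scheme.Modules.pushforward g') _ _ (productIsProduct _)).fac _ ⟨J⟩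

/-- The cosimplicial object of the Čech complex of sheaves. -/
abbrev cosS {Y : Scheme.{u}} {κ : Type u} (𝒱 : κ → Y.Opens) (G : Y.Modules) : CosimplicialObject Y.Modules :=
  (FormalCoproduct.cosimplicialObjectFunctor (FormalCoproduct.mk _ 𝒱).cech).obj (CechOX.pushRestrFam.flip.obj G)

theorem psiN_δ (n : ℕ) (i : Fin (n + 2)) :
    (cosS 𝒰 F).δ i ≫ psiN g' F 𝒰 (n + 1) = psiN g' F 𝒰 n ≫ (Scheme.Modules.pushforward g').map
      ((cosS (pre g' 𝒰) ((Scheme.Modules.pullback g').obj F)).δ i) := by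
  refine (isLimitFanMkObjOfIsLimit (Scheme.Modules.pushforward g') _ _ (productIsProduct _)).hom_ext fun ⟨K⟩ => ?_
  change ((cosS 𝒰 F).δ i ≫ psiN g' F 𝒰 (n + 1)) ≫ (Scheme.Modules.pushforward g').map
      (Pi.π (fun J : Fin (n + 2) → ι => (CechOX.pushRestr (∏ᶜ (pre g' 𝒰 ∘ J))).obj ((Scheme.Modules.pullback g').obj F)) K) =
    (psiN g' F 𝒰 n ≫ (Scheme.Modules.pushforward g').map
        ((cosS (pre g' 𝒰) ((Scheme.Modules.pullback g').obj F)).δ i)) ≫ (Scheme.Modules.pushforward g').map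
      (Pi.π (fun J : Fin (n + 2) → ι => (CechOX.pushRestr (∏ᶜ (pre g' 𝒰 ∘ J))).obj ((Scheme.Modules.pullback g').obj F)) K)
  rw [Category.assoc, psiN_π, Category.assoc, ← Functor.map_comp]
  have e : (cosS 𝒰 F).δ i ≫ Pi.π (fun J : Fin (n + 2) → ι => (CechOX.pushRestr (∏ᶜ (𝒰 ∘ J))).obj F) K =
      Pi.π (fun J : Fin (n + 1) → ι => (CechOX.pushRestr (∏ᶜ (𝒰 ∘ J))).obj F) (K ∘ i.succAbove) ≫
        CechOX.pushRestrMapApp (leOfHom (Pi.lift fun k => Pi.π (𝒰 ∘ K) (i.succAbove k) :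
          (∏ᶜ (𝒰 ∘ K) : X.Opens) ⟶ ∏ᶜ (𝒰 ∘ (K ∘ i.succAbove)))) F := Pi.lift_π _ _
  have e' : (cosS (pre g' 𝒰) ((Scheme.Modules.pullback g').obj F)).δ i ≫ Pi.π (fun J : Fin (n + 2) → ι =>
      (CechOX.pushRestr (∏ᶜ (pre g' 𝒰 ∘ J))).obj ((Scheme.Modules.pullback g').obj F)) K =
      Pi.π (fun J : Fin (n + 1) → ι =>
        (CechOX.pushRestr (∏ᶜ (pre g' 𝒰 ∘ J))).obj ((Scheme.Modules.pullback g').obj F)) (K ∘ i.succAbove) ≫
        CechOX.pushRestrMapApp (leOfHom (Pi.lift fun k => Pi.π (pre g' 𝒰 ∘ K) (i.succAbove k) :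
          (∏ᶜ (pre g' 𝒰 ∘ K) : X'.Opens) ⟶ ∏ᶜ (pre g' 𝒰 ∘ (K ∘ i.succAbove)))) _ := Pi.lift_π _ _
  refine ((Category.assoc _ _ _).symm.trans (eq_whisker e _)).trans ?_
  refine Eq.trans ?_ (whisker_eq (psiN g' F 𝒰 n) (congrArg (Scheme.Modules.pushforward g').map e')).symm
  rw [Functor.map_comp, ← Category.assoc (psiN g' F 𝒰 n), psiN_π, Category.assoc, Category.assoc,
    psi_res g' F (tm_le g' 𝒰 (K ∘ i.succAbove)) (tm_le g' 𝒰 K)]

theorem coface_d {A : Type*} [Category* A] [Preadditive A] (c : CosimplicialObject A) (p : ℕ) :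
    ((alternatingCofaceMapComplex A).obj c).d p (p + 1) =
      ∑ i : Fin (p + 2), (-1 : ℤ) ^ (i : ℕ) • c.δ i := by
  exact CochainComplex.of_d (fun n => c.obj ⦋n⦌) (AlternatingCofaceMapComplex.objD c) p

/-- Pullback of sections as a morphism of Čech complexes. -/
def psiC : (CechOX.cechSh 𝒰).obj F ⟶ ((Scheme.Modules.pushforward g').mapHomologicalComplex _).obj
    ((CechOX.cechSh (pre g' 𝒰)).obj ((Scheme.Modules.pullback g').obj F)) where
  f n := psiN g' F 𝒰 n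
  comm' p q hpq := by
    obtain rfl : p + 1 = q := hpq
    change psiN g' F 𝒰 p ≫ (Scheme.Modules.pushforward g').map
        (((alternatingCofaceMapComplex X'.Modules).obj (cosS (pre g' 𝒰) _)).d p (p + 1)) =
      ((alternatingCofaceMapComplex X.Modules).obj (cosS 𝒰 F)).d p (p + 1) ≫ psiN g' F 𝒰 (p + 1)
    rw [coface_d (cosS (pre g' 𝒰) ((Scheme.Modules.pullback g').obj F)) p, coface_d (cosS 𝒰 F) p]
    erw [Functor.map_sum, Preadditive.comp_sum, Preadditive.sum_comp]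
    refine Finset.sum_congr rfl fun i _ => ?_
    rw [Functor.map_zsmul]
    erw [Preadditive.comp_zsmul, Preadditive.zsmul_comp, psiN_δ]

end Groth.Agent.RelCech8
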