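import Groth.Agent.Lib.RelCech8.Main

/-!
# The relative Čech complex computes `Rf_*`, for families with affine inclusions
-/

set_option autoImplicit false
set_option linter.style.haveILetI false
set_option linter.unusedSectionVars false
set_option backward.isDefEq.respectTransparency false
set_option backward.isDefEq.respectTransparency.types false
set_option synthInstance.maxHeartbeats 200000

universe u

open CategoryTheory CategoryTheory.Limits AlgebraicGeometry Opposite TopologicalSpace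

namespace Groth.Agent.RelCech8

attribute [local instance] HasDerivedCategory.standard

variable {X S : Scheme.{u}} {ι : Type u} (𝒰 : ι → X.Opens) (F : X.Modules) (hF : Coh.IsQCoh F) [Finite ι] (f : X ⟶ S)
  (haW : ∀ (n : ℕ) (J : Fin (n + 1) → ι), IsAffineHom (∏ᶜ (𝒰 ∘ J) : X.Opens).ι)
  (haF : ∀ (n : ℕ) (J : Fin (n + 1) → ι), IsAffineHom ((∏ᶜ (𝒰 ∘ J) : X.Opens).ι ≫ f))

include hF haW

theorem isQCoh_cechSh' (p : ℕ) : Coh.IsQCoh (((CechOX.cechSh 𝒰).obj F).X p) := by
  haveI : Finite (Fin (p + 1) → ι) := inferInstance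
  show Coh.IsQCoh (∏ᶜ fun J : Fin (p + 1) → ι => (CechOX.pushRestr (∏ᶜ (𝒰 ∘ J))).obj F)
  refine isQCoh_pi _ fun J => ?_
  haveI := haW p J
  have h := M1.isQCoh_push (∏ᶜ (𝒰 ∘ J) : X.Opens).ι (F := F.restrict (∏ᶜ (𝒰 ∘ J) : X.Opens).ι) (M1.isQCoh_restrict hF _)
  exact h

include haF

theorem isAcyclicObj_cechSh' [QuasiCompact f] [QuasiSeparated f] (p : ℕ) :
    RFPlus.IsAcyclicObj (Scheme.Modules.pushforward f) (((CechOX.cechSh 𝒰).obj F).X p) := by
  show RFPlus.IsAcyclicObj _ (∏ᶜ fun J : Fin (p + 1) → ι => (CechOX.pushRestr (∏ᶜ (𝒰 ∘ J))).obj F)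
  refine isAcyclicObj_pi f _ fun J => ?_
  haveI := haW p J
  haveI := haF p J
  have h := isAcyclicObj_push (∏ᶜ (𝒰 ∘ J) : X.Opens).ι f (N := F.restrict (∏ᶜ (𝒰 ∘ J) : X.Opens).ι) (M1.isQCoh_restrict hF _)
  exact h

/-- The relative Čech complex computes the derived direct image. -/
theorem nonempty_iso_Rpush' [QuasiCompact f] [QuasiSeparated f] (hcov : ⨆ i, 𝒰 i = ⊤) [DCoh.HasRpush f] :
    Nonempty (DCoh.toD S (CechOX.relCechZ 𝒰 f F) ≅ (DCoh.Rpush f).obj (DCoh.inD X F)) := by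
  obtain ⟨e⟩ := nonempty_toD_cechShZ 𝒰 F hcov
  haveI := DPush9.isIso_βp f (CechOX.cechShZ 𝒰 F)
    (fun n => prop_extend _ Coh.IsQCoh (fun e h => M1.isQCoh_of_isIso e h) DPush.isQCoh_of_isZero
      (isQCoh_cechSh' 𝒰 F hF haW) n)
    (fun n => prop_extend _ (RFPlus.IsAcyclicObj (Scheme.Modules.pushforward f))
      (fun e h i hi => (h i hi).of_iso (((Scheme.Modules.pushforward f).rightDerived i).mapIso e.symm))
      (fun hz => by
        haveI := hz.injective
        exact RFPlus.isAcyclicObj_injective _ _)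
      (isAcyclicObj_cechSh' 𝒰 F hF f haW haF) n)
  exact ⟨DerivedCategory.Q.mapIso (RFPlus.mapExtendIso (Scheme.Modules.pushforward f)
      ComplexShape.embeddingUpNat ((CechOX.cechSh 𝒰).obj F)).symm ≪≫
    asIso ((DPush9.βp f).app (CechOX.cechShZ 𝒰 F)) ≪≫ (DCoh.Rpush f).mapIso e.symm⟩

end Groth.Agent.RelCech8
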